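import Mathlib

/-!
# Fields of finite type over ℤ are finite; homs from f.g. rings to finite rings (helper24)
-/

set_option autoImplicit false
set_option linter.style.haveILetI false
universe u

namespace Groth.Agent.Lib.Helper24.FTZ

instance isJacobsonRing_int : IsJacobsonRing ℤ := by
  rw [isJacobsonRing_iff_prime_eq]
  intro P hP
  by_cases h0 : P = ⊥
  · subst h0
    rw [eq_bot_iff]
    intro x hx
    rw [Ideal.mem_bot]
    by_contra hx0
    obtain ⟨p, hp1, hp2⟩ := Nat.exists_infinite_primes (x.natAbs + 1)
    have hmax : (Ideal.span {(p : ℤ)}).IsMaximal :=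
      PrincipalIdealRing.isMaximal_of_irreducible
        (Nat.prime_iff_prime_int.mp hp2).irreducible
    have hmem : x ∈ Ideal.span {(p : ℤ)} := by
      rw [Ideal.jacobson, Ideal.mem_sInf] at hx
      exact hx ⟨bot_le, hmax⟩
    rw [Ideal.mem_span_singleton] at hmem
    have := Int.natAbs_dvd_natAbs.mpr hmem
    rw [Int.natAbs_natCast] at this
    have := Nat.le_of_dvd (Int.natAbs_pos.mpr hx0) this
    omega
  · haveI : P.IsMaximal := hP.isMaximal h0
    exact Ideal.jacobson_eq_self_of_isMaximal

theorem finite_of_field_finiteType_int (K : Type*) [Field K] [Algebra.FiniteType ℤ K] :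
    Finite K := by
  haveI : Module.Finite ℤ K := finite_of_finite_type_of_isJacobsonRing ℤ K
  obtain ⟨p, hp⟩ := CharP.exists K
  have hp0 : p ≠ 0 := by
    rintro rfl
    haveI : CharZero K := CharP.charP_to_charZero K
    have hfg : (⊤ : Submodule ℤ K).FG := Module.Finite.fg_top
    have hle : (⊤ : Submodule ℤ K) ≤ (Ideal.span {(2 : ℤ)}) • (⊤ : Submodule ℤ K) := by
      intro x _
      have h2 : (2 : K) ≠ 0 := two_ne_zero
      have : x = (2 : ℤ) • (x / 2) := by
        rw [zsmul_eq_mul]; push_cast; field_simp
      rw [this]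
      exact Submodule.smul_mem_smul (Ideal.subset_span rfl) trivial
    obtain ⟨r, hr1, hr2⟩ :=
      Submodule.exists_sub_one_mem_and_smul_eq_zero_of_fg_of_le_smul _ _ hfg hle
    have h1 : r • (1 : K) = 0 := hr2 1 trivial
    rw [zsmul_eq_mul, mul_one] at h1
    have hr0 : r = 0 := by exact_mod_cast h1
    rw [hr0, Ideal.mem_span_singleton] at hr1
    omega
  haveI : Fact p.Prime := ⟨(CharP.char_is_prime_or_zero K p).resolve_right hp0⟩
  letI : Algebra (ZMod p) K := ZMod.algebra K p
  haveI : Module.Finite (ZMod p) K := Module.Finite.of_restrictScalars_finite ℤ (ZMod p) K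
  exact Module.finite_of_finite (ZMod p)

theorem finite_of_isField_finiteType_int (K : Type*) [CommRing K] (hK : IsField K)
    [inst : Algebra ℤ K] [h : Algebra.FiniteType ℤ K] : Finite K := by
  letI := hK.toField
  have e : inst = Ring.toIntAlgebra K := Subsingleton.elim _ _
  subst e
  exact finite_of_field_finiteType_int K

theorem finite_ringHom_of_finiteType (A F : Type*) [CommRing A] [CommRing F] [Finite F]
    [Algebra.FiniteType ℤ A] : Finite (A →+* F) := by
  obtain ⟨n, f, hf⟩ := Algebra.FiniteType.iff_quotient_mvPolynomial''.mp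
    (inferInstance : Algebra.FiniteType ℤ A)
  let Φ : (A →+* F) → (Fin n → F) := fun φ i => φ (f (MvPolynomial.X i))
  have hΦ : Function.Injective Φ := by
    intro φ ψ h
    have h1 : φ.comp (f : MvPolynomial (Fin n) ℤ →+* A) = ψ.comp (f : MvPolynomial (Fin n) ℤ →+* A) := by
      apply MvPolynomial.ringHom_ext
      · intro r
        simp
      · intro i
        exact congrFun h i
    ext a
    obtain ⟨q, rfl⟩ := hf a
    exact RingHom.congr_fun h1 q
  exact Finite.of_injective Φ hΦ

end Groth.Agent.Lib.Helper24.FTZ
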