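import Mathlib
import Groth.Agent.Lib.Helper24.FTZ.Alg
import Groth.Agent.Lib.lead.ResTrdegBridge

/-!
# Schemes of finite type over ℤ: closed points have finite residue fields (helper24)
-/

set_option autoImplicit false
set_option linter.style.haveILetI false
universe u
open CategoryTheory AlgebraicGeometry

namespace Groth.Agent.Lib.Helper24.FTZ

variable (Y : Scheme.{u})

/-- affine opens of a scheme locally of finite type over `Spec ℤ` are of finite type over `ℤ` -/
theorem finiteType_int_of_isAffineOpen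
    [LocallyOfFiniteType (Limits.IsTerminal.from specULiftZIsTerminal Y)]
    {V : Y.Opens} (hV : IsAffineOpen V) : Algebra.FiniteType ℤ Γ(Y, V) := by
  set τ := Limits.IsTerminal.from specULiftZIsTerminal Y
  have h1 : RingHom.FiniteType (τ.appLE ⊤ V le_top).hom :=
    HasRingHomProperty.appLE @LocallyOfFiniteType τ inferInstance
      ⟨⊤, isAffineOpen_top _⟩ ⟨V, hV⟩ le_top
  let g : ℤ →+* Γ(Spec (CommRingCat.of (ULift.{u} ℤ)), ⊤) :=
    ((Scheme.ΓSpecIso (CommRingCat.of (ULift.{u} ℤ))).inv.hom).comp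
      (ULift.ringEquiv.symm : ℤ ≃+* ULift.{u} ℤ).toRingHom
  have hg : Function.Surjective g := by
    have h2 : Function.Bijective (Scheme.ΓSpecIso (CommRingCat.of (ULift.{u} ℤ))).inv.hom :=
      (ConcreteCategory.isIso_iff_bijective _).mp inferInstance
    exact h2.2.comp (ULift.ringEquiv.symm : ℤ ≃+* ULift.{u} ℤ).surjective
  have h3 : RingHom.FiniteType ((τ.appLE ⊤ V le_top).hom.comp g) :=
    h1.comp (RingHom.FiniteType.of_surjective g hg)
  have h4 : (τ.appLE ⊤ V le_top).hom.comp g = algebraMap ℤ Γ(Y, V) := Subsingleton.elim _ _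
  rw [h4] at h3
  exact RingHom.finiteType_algebraMap.mp h3

variable {Y}

theorem fromSpec_specializes_iff {V : Y.Opens} (hV : IsAffineOpen V) (p q : Spec Γ(Y, V)) :
    hV.fromSpec p ⤳ hV.fromSpec q ↔ p ⤳ q :=
  hV.fromSpec.isOpenEmbedding.isInducing.specializes_iff

theorem isClosed_singleton_of_forall_isMaximal (y : Y)
    (h : ∀ (V : Y.Opens) (hV : IsAffineOpen V) (hy : y ∈ V),
      (hV.primeIdealOf ⟨y, hy⟩).asIdeal.IsMaximal) : IsClosed ({y} : Set Y) := by
  rw [← closure_subset_iff_isClosed]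
  intro z hz
  have hyz : y ⤳ z := specializes_iff_mem_closure.mpr hz
  obtain ⟨V, hV, hzV⟩ : ∃ V : Y.Opens, IsAffineOpen V ∧ z ∈ V := by
    obtain ⟨_, ⟨V, hV, rfl⟩, hzV, -⟩ := Y.isBasis_affineOpens.exists_subset_of_mem_open
      (Set.mem_univ z) isOpen_univ
    exact ⟨V, hV, hzV⟩
  have hyV : y ∈ V := hyz.mem_open V.isOpen hzV
  have hmax := h V hV hyV
  let py : ↥(Spec Γ(Y, V)) := hV.primeIdealOf ⟨y, hyV⟩
  let pz : ↥(Spec Γ(Y, V)) := hV.primeIdealOf ⟨z, hzV⟩
  have hpy : hV.fromSpec py = y := hV.fromSpec_primeIdealOf ⟨y, hyV⟩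
  have hpz : hV.fromSpec pz = z := hV.fromSpec_primeIdealOf ⟨z, hzV⟩
  have h1 : py ⤳ pz := (fromSpec_specializes_iff hV py pz).mp (by rw [hpy, hpz]; exact hyz)
  have h2 : IsClosed ({py} : Set ↥(Spec Γ(Y, V))) :=
    (PrimeSpectrum.isClosed_singleton_iff_isMaximal _).mpr hmax
  have h3 : pz = py := h1.mem_closed h2 rfl
  rw [Set.mem_singleton_iff, ← hpz, ← hpy, h3]

theorem isMaximal_of_isClosed_singleton (y : Y) (hcl : IsClosed ({y} : Set Y))
    {V : Y.Opens} (hV : IsAffineOpen V) (hy : y ∈ V) :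
    (hV.primeIdealOf ⟨y, hy⟩).asIdeal.IsMaximal := by
  let py : ↥(Spec Γ(Y, V)) := hV.primeIdealOf ⟨y, hy⟩
  have hpy : hV.fromSpec py = y := hV.fromSpec_primeIdealOf ⟨y, hy⟩
  have h1 : ({py} : Set ↥(Spec Γ(Y, V))) = hV.fromSpec ⁻¹' {y} := by
    ext q
    simp only [Set.mem_singleton_iff, Set.mem_preimage]
    constructor
    · rintro rfl
      exact hpy
    · intro hq
      apply hV.fromSpec.isOpenEmbedding.injective
      rw [hq, hpy]
  have h2 : IsClosed ({py} : Set ↥(Spec Γ(Y, V))) := by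
    rw [h1]
    exact hcl.preimage hV.fromSpec.continuous
  exact (PrimeSpectrum.isClosed_singleton_iff_isMaximal _).mp h2

open Groth.Agent.Lib.lead.ResTrdegBridge in
theorem finite_residueField_iff (Y : Scheme.{u})
    [LocallyOfFiniteType (Limits.IsTerminal.from specULiftZIsTerminal Y)] (y : Y) :
    IsClosed ({y} : Set Y) ↔ Finite ↑(Y.residueField y) := by
  constructor
  · intro hcl
    obtain ⟨V, hV, hyV⟩ : ∃ V : Y.Opens, IsAffineOpen V ∧ y ∈ V := by
      obtain ⟨_, ⟨V, hV, rfl⟩, hyV, -⟩ := Y.isBasis_affineOpens.exists_subset_of_mem_open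
        (Set.mem_univ y) isOpen_univ
      exact ⟨V, hV, hyV⟩
    have hmax := isMaximal_of_isClosed_singleton y hcl hV hyV
    have hker := ker_evaluation hV y hyV
    set ev := (Y.evaluation V y hyV).hom with hev
    set P := (hV.primeIdealOf ⟨y, hyV⟩).asIdeal with hP
    haveI : Algebra.FiniteType ℤ Γ(Y, V) := finiteType_int_of_isAffineOpen Y hV
    haveI : Algebra.FiniteType ℤ (Γ(Y, V) ⧸ P) :=
      Algebra.FiniteType.of_surjective (Ideal.Quotient.mkₐ ℤ P) (Ideal.Quotient.mkₐ_surjective ℤ P)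
    haveI : Finite (Γ(Y, V) ⧸ P) :=
      finite_of_isField_finiteType_int _ ((Ideal.Quotient.maximal_ideal_iff_isField_quotient P).mp hmax)
    letI : Field (Γ(Y, V) ⧸ P) := Ideal.Quotient.field P
    let ψ : Γ(Y, V) ⧸ P →+* Y.residueField y :=
      Ideal.Quotient.lift P ev (fun a ha => by rw [← RingHom.mem_ker, hker]; exact ha)
    have hψ : Function.Surjective ψ := by
      intro l
      obtain ⟨s, t, ht, rfl⟩ := evaluation_frac_surj hV y hyV l
      refine ⟨Ideal.Quotient.mk P s * (Ideal.Quotient.mk P t)⁻¹, ?_⟩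
      rw [map_mul, map_inv₀, div_eq_mul_inv]
      rfl
    exact Finite.of_surjective ψ hψ
  · intro hfin
    apply isClosed_singleton_of_forall_isMaximal
    intro V hV hyV
    have hker := ker_evaluation hV y hyV
    set ev := (Y.evaluation V y hyV).hom with hev
    rw [← hker]
    haveI : (RingHom.ker ev).IsPrime := RingHom.ker_isPrime ev
    haveI : Finite (Γ(Y, V) ⧸ RingHom.ker ev) :=
      Finite.of_injective _ (RingHom.kerLift_injective ev)
    exact Ideal.Quotient.maximal_of_isField _ (Finite.isField_of_domain _)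

open Groth.Agent.Lib.lead.ResTrdegBridge in
theorem finite_inter_affine (Y : Scheme.{u})
    [LocallyOfFiniteType (Limits.IsTerminal.from specULiftZIsTerminal Y)]
    (F : Type) [Field F] [Finite F] {V : Y.Opens} (hV : IsAffineOpen V) :
    ({y : Y | Nonempty (↑(Y.residueField y) →+* F)} ∩ (V : Set Y)).Finite := by
  haveI : Algebra.FiniteType ℤ Γ(Y, V) := finiteType_int_of_isAffineOpen Y hV
  haveI : Finite (Γ(Y, V) →+* F) := finite_ringHom_of_finiteType _ _
  let Φ : ↥({y : Y | Nonempty (↑(Y.residueField y) →+* F)} ∩ (V : Set Y)) → (Γ(Y, V) →+* F) :=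
    fun y => (y.2.1.some).comp (Y.evaluation V y.1 y.2.2).hom
  have hΦ : Function.Injective Φ := by
    rintro ⟨y, hy1, hy2⟩ ⟨y', hy1', hy2'⟩ h
    have h1 : RingHom.ker (Φ ⟨y, hy1, hy2⟩) = RingHom.ker (Φ ⟨y', hy1', hy2'⟩) := by rw [h]
    have h2 : ∀ (z : Y) (hz1 : Nonempty (↑(Y.residueField z) →+* F)) (hz2 : z ∈ V),
        RingHom.ker (Φ ⟨z, hz1, hz2⟩) = (hV.primeIdealOf ⟨z, hz2⟩).asIdeal := by
      intro z hz1 hz2
      rw [← ker_evaluation hV z hz2]
      exact RingHom.ker_comp_of_injective _ (RingHom.injective _)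
    rw [h2 y hy1 hy2, h2 y' hy1' hy2'] at h1
    have h3 : hV.primeIdealOf ⟨y, hy2⟩ = hV.primeIdealOf ⟨y', hy2'⟩ := PrimeSpectrum.ext h1
    have h4 := congrArg (fun q : PrimeSpectrum Γ(Y, V) => hV.fromSpec q) h3
    simp only [hV.fromSpec_primeIdealOf] at h4
    exact Subtype.ext h4
  exact Set.finite_coe_iff.mp (Finite.of_injective Φ hΦ)

theorem main (Y : Scheme.{u}) [CompactSpace Y]
    [LocallyOfFiniteType (Limits.IsTerminal.from specULiftZIsTerminal Y)] :
    (∀ y : Y, IsClosed ({y} : Set Y) ↔ Finite ↑(Y.residueField y)) ∧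
    ∀ (p d : ℕ) [Fact p.Prime], 0 < d →
      {y : Y | Nonempty (↑(Y.residueField y) →+* GaloisField p d)}.Finite := by
  refine ⟨finite_residueField_iff Y, ?_⟩
  intro p d _ _
  have hW : ∀ y : Y, ∃ V : Y.Opens, IsAffineOpen V ∧ y ∈ V := by
    intro y
    obtain ⟨_, ⟨V, hV, rfl⟩, hyV, -⟩ := Y.isBasis_affineOpens.exists_subset_of_mem_open
      (Set.mem_univ y) isOpen_univ
    exact ⟨V, hV, hyV⟩
  choose W hWa hWy using hW
  obtain ⟨t, ht⟩ := isCompact_univ.elim_finite_subcover (fun y => (W y : Set Y))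
    (fun y => (W y).isOpen) (fun y _ => Set.mem_iUnion.mpr ⟨y, hWy y⟩)
  refine Set.Finite.subset (Set.Finite.biUnion t.finite_toSet
    (fun y _ => finite_inter_affine Y (GaloisField p d) (hWa y))) ?_
  intro z hz
  obtain ⟨y, hy⟩ := Set.mem_iUnion.mp (ht (Set.mem_univ z))
  obtain ⟨hyt, hzW⟩ := Set.mem_iUnion.mp hy
  exact Set.mem_biUnion hyt ⟨hz, hzW⟩

end Groth.Agent.Lib.Helper24.FTZ
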